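import Mathlib.GroupTheory.SpecificGroups.Quaternion
import Mathlib.GroupTheory.SemidirectProduct
import Mathlib.LinearAlgebra.Matrix.SpecialLinearGroup
import Mathlib.Data.ZMod.Basic
import Mathlib.Tactic

/-!
# A recognition criterion for `SL(2,3)`

A group generated by `i, j, y` with `i⁴ = 1`, `j² = i²`, `j i j⁻¹ = i⁻¹`, `y³ = 1`, `y i y⁻¹ = j`,
`y j y⁻¹ = j i`, and `i² ≠ 1` is isomorphic to `SL(2,3)`.
-/

set_option autoImplicit false

namespace Cfsg.Agent.Lib.ElementFusion.SL23

open QuaternionGroup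

universe u

/-- `SL(2,3)`. -/
abbrev G₀ := Matrix.SpecialLinearGroup (Fin 2) (ZMod 3)

/-- The quaternion group of order `8`. -/
abbrev Q8 := QuaternionGroup 2

section hom

variable {W : Type u} [Group W]

/-- The homomorphism `ℤ/3 → W` given by an element with `y³ = 1`. -/
def powHom3 (y : W) (hy : y ^ 3 = 1) : Multiplicative (ZMod 3) →* W where
  toFun e := y ^ (Multiplicative.toAdd e).val
  map_one' := by
    change y ^ (0 : ZMod 3).val = 1
    simp
  map_mul' := by
    intro e e'
    change y ^ ((Multiplicative.toAdd e) + (Multiplicative.toAdd e')).val = _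
    rw [ZMod.val_add, ← pow_eq_pow_mod _ hy, pow_add]

/-- The underlying function of the homomorphism `Q₈ → W`. -/
def quatFun (i j : W) : Q8 → W
  | .a s => i ^ s.val
  | .xa s => j * i ^ s.val

theorem pow_val_add (i : W) (hi : i ^ 4 = 1) (s t : ZMod (2 * 2)) :
    i ^ (s + t).val = i ^ s.val * i ^ t.val := by
  rw [ZMod.val_add, ← pow_eq_pow_mod _ hi, pow_add]

theorem pow_val_neg (i : W) (hi : i ^ 4 = 1) (s : ZMod (2 * 2)) :
    i ^ (-s).val = (i⁻¹) ^ s.val := by
  rw [inv_pow, eq_inv_iff_mul_eq_one, ← pow_val_add i hi]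
  simp

theorem pow_mul_j (i j : W) (hji : j * i * j⁻¹ = i⁻¹) (n : ℕ) :
    i ^ n * j = j * (i⁻¹) ^ n := by
  have h1 : SemiconjBy j i⁻¹ i := by
    unfold SemiconjBy
    have h2 : j * i⁻¹ * j⁻¹ = i := by
      have := congrArg (·⁻¹) hji
      simpa [mul_assoc] using this
    calc j * i⁻¹ = (j * i⁻¹ * j⁻¹) * j := by group
      _ = i * j := by rw [h2]
  exact ((h1.pow_right n).eq).symm

/-- The homomorphism `Q₈ → W` given by a pair `i, j`. -/
def quatHom (i j : W) (hi : i ^ 4 = 1) (hj : j ^ 2 = i ^ 2) (hji : j * i * j⁻¹ = i⁻¹) : Q8 →* W :=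
  MonoidHom.mk' (quatFun i j) (by
    have key : ∀ (s t : ZMod (2 * 2)), i ^ s.val * (j * i ^ t.val) = j * i ^ (t - s).val := by
      intro s t
      rw [← mul_assoc, pow_mul_j i j hji, mul_assoc, ← pow_val_neg i hi, ← pow_val_add i hi]
      congr 3
      ring
    rintro (s | s) (t | t)
    · change i ^ (s + t).val = i ^ s.val * i ^ t.val
      exact pow_val_add i hi s t
    · change j * i ^ (t - s).val = i ^ s.val * (j * i ^ t.val)
      exact (key s t).symm
    · change j * i ^ (s + t).val = j * i ^ s.val * i ^ t.val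
      rw [pow_val_add i hi, mul_assoc]
    · change i ^ (((2 : ℕ) : ZMod (2 * 2)) + t - s).val = j * i ^ s.val * (j * i ^ t.val)
      have hjj : j * j = i ^ 2 := by rw [← hj, pow_two]
      rw [mul_assoc, key s t, ← mul_assoc, hjj]
      have h2 : i ^ 2 = i ^ ((2 : ℕ) : ZMod (2 * 2)).val := by
        congr 1
      rw [h2, ← pow_val_add i hi]
      congr 3
      ring)

@[simp] theorem quatHom_a (i j : W) (hi : i ^ 4 = 1) (hj : j ^ 2 = i ^ 2) (hji : j * i * j⁻¹ = i⁻¹)
    (s : ZMod (2 * 2)) : quatHom i j hi hj hji (a s) = i ^ s.val := rfl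

@[simp] theorem quatHom_xa (i j : W) (hi : i ^ 4 = 1) (hj : j ^ 2 = i ^ 2) (hji : j * i * j⁻¹ = i⁻¹)
    (s : ZMod (2 * 2)) : quatHom i j hi hj hji (xa s) = j * i ^ s.val := rfl

/-- Homomorphisms from `Q₈` are determined on two generators. -/
theorem quat_hom_ext (f f' : Q8 →* W) (h1 : f (a 1) = f' (a 1)) (h2 : f (xa 0) = f' (xa 0)) :
    f = f' := by
  have h3 : ∀ s : ZMod (2 * 2), f (a s) = f' (a s) := by
    intro s
    have : a s = (a 1 : Q8) ^ s.val := by
      rw [a_one_pow]
      simp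
    rw [this, map_pow, map_pow, h1]
  ext (s | s)
  · exact h3 s
  · have : xa s = (xa 0 : Q8) * a s := by simp
    rw [this, map_mul, map_mul, h2, h3]

end hom

/-- The automorphism of order three of `Q₈`, as a function. -/
def tauF : Q8 → Q8
  | .a s => if s.val % 2 = 0 then a s else xa (s - 1)
  | .xa s => if s.val % 2 = 0 then xa (s + 1) else a s

theorem tauF_mul : ∀ x y : Q8, tauF (x * y) = tauF x * tauF y := by decide +kernel

theorem tauF_three : ∀ x : Q8, tauF (tauF (tauF x)) = x := by decide +kernel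

/-- The automorphism of order three of `Q₈`. -/
def tau : MulAut Q8 where
  toFun := tauF
  invFun x := tauF (tauF x)
  left_inv := tauF_three
  right_inv x := tauF_three x
  map_mul' := tauF_mul

theorem tau_pow_three : tau ^ 3 = 1 := by
  ext x
  exact tauF_three x

/-- The action of `ℤ/3` on `Q₈`. -/
def phi : Multiplicative (ZMod 3) →* MulAut Q8 := powHom3 tau tau_pow_three

/-- The semidirect product `Q₈ ⋊ ℤ/3`. -/
abbrev M := Q8 ⋊[phi] Multiplicative (ZMod 3)

section model

variable {W : Type u} [Group W]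

/-- The homomorphism from the model group given by generators and relations. -/
def modelHom (i j y : W) (hi : i ^ 4 = 1) (hj : j ^ 2 = i ^ 2) (hji : j * i * j⁻¹ = i⁻¹)
    (hy : y ^ 3 = 1) (hyi : y * i * y⁻¹ = j) (hyj : y * j * y⁻¹ = j * i) : M →* W :=
  SemidirectProduct.lift (quatHom i j hi hj hji) (powHom3 y hy) (by
    have hτ : (quatHom i j hi hj hji).comp tau.toMonoidHom =
        (MulAut.conj y).toMonoidHom.comp (quatHom i j hi hj hji) := by
      apply quat_hom_ext
      · have h1 : tauF (a 1) = xa 0 := by decide +kernel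
        change quatHom i j hi hj hji (tauF (a 1)) = y * (i ^ (1 : ZMod (2 * 2)).val) * y⁻¹
        rw [h1]
        have h2 : (1 : ZMod (2 * 2)).val = 1 := by decide +kernel
        have h3 : (0 : ZMod (2 * 2)).val = 0 := by decide +kernel
        simp only [quatHom_xa, h2, h3, pow_one, pow_zero, mul_one]
        exact hyi.symm
      · have h1 : tauF (xa 0) = xa 1 := by decide +kernel
        change quatHom i j hi hj hji (tauF (xa 0)) = y * (j * i ^ (0 : ZMod (2 * 2)).val) * y⁻¹
        rw [h1]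
        have h2 : (1 : ZMod (2 * 2)).val = 1 := by decide +kernel
        have h3 : (0 : ZMod (2 * 2)).val = 0 := by decide +kernel
        simp only [quatHom_xa, h2, h3, pow_one, pow_zero, mul_one]
        exact hyj.symm
    have hτn : ∀ (n : ℕ) (x : Q8), quatHom i j hi hj hji ((tau ^ n) x) =
        y ^ n * quatHom i j hi hj hji x * (y ^ n)⁻¹ := by
      intro n
      induction n with
      | zero => intro x; simp
      | succ n ih =>
        intro x
        rw [pow_succ', MulAut.mul_apply]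
        have := DFunLike.congr_fun hτ ((tau ^ n) x)
        change quatHom i j hi hj hji (tau ((tau ^ n) x)) =
          y * quatHom i j hi hj hji ((tau ^ n) x) * y⁻¹ at this
        rw [this, ih x, pow_succ']
        group
    intro e
    ext x
    change quatHom i j hi hj hji ((tau ^ (Multiplicative.toAdd e).val) x) =
      y ^ (Multiplicative.toAdd e).val * quatHom i j hi hj hji x * (y ^ (Multiplicative.toAdd e).val)⁻¹
    exact hτn _ x)

@[simp] theorem modelHom_inl (i j y : W) (hi : i ^ 4 = 1) (hj : j ^ 2 = i ^ 2)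
    (hji : j * i * j⁻¹ = i⁻¹) (hy : y ^ 3 = 1) (hyi : y * i * y⁻¹ = j) (hyj : y * j * y⁻¹ = j * i)
    (x : Q8) : modelHom i j y hi hj hji hy hyi hyj (SemidirectProduct.inl x) = quatHom i j hi hj hji x := by
  simp [modelHom]

@[simp] theorem modelHom_inr (i j y : W) (hi : i ^ 4 = 1) (hj : j ^ 2 = i ^ 2)
    (hji : j * i * j⁻¹ = i⁻¹) (hy : y ^ 3 = 1) (hyi : y * i * y⁻¹ = j) (hyj : y * j * y⁻¹ = j * i)
    (e : Multiplicative (ZMod 3)) :
    modelHom i j y hi hj hji hy hyi hyj (SemidirectProduct.inr e) = powHom3 y hy e := by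
  simp [modelHom]

end model

/-- The element of order 4. -/
def A₀ : G₀ := ⟨!![0, -1; 1, 0], by decide +kernel⟩

/-- The second generator of `Q₈` in `SL(2,3)`. -/
def X₀ : G₀ := ⟨!![1, 1; 1, -1], by decide +kernel⟩

/-- An element of order 3. -/
def Y₀ : G₀ := ⟨!![-1, 1; -1, 0], by decide +kernel⟩

theorem A₀_four : A₀ ^ 4 = 1 := by decide +kernel
theorem X₀_sq : X₀ ^ 2 = A₀ ^ 2 := by decide +kernel
theorem X₀_A₀ : X₀ * A₀ * X₀⁻¹ = A₀⁻¹ := by decide +kernel
theorem Y₀_three : Y₀ ^ 3 = 1 := by decide +kernel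
theorem Y₀_A₀ : Y₀ * A₀ * Y₀⁻¹ = X₀ := by decide +kernel
theorem Y₀_X₀ : Y₀ * X₀ * Y₀⁻¹ = X₀ * A₀ := by decide +kernel

/-- The map from the model to `SL(2,3)`. -/
def F₀ : M →* G₀ := modelHom A₀ X₀ Y₀ A₀_four X₀_sq X₀_A₀ Y₀_three Y₀_A₀ Y₀_X₀

theorem F₀_apply (m : M) : F₀ m = quatFun A₀ X₀ m.left * Y₀ ^ (Multiplicative.toAdd m.right).val := rfl

theorem F₀_ker_aux : ∀ (x : Q8) (e : ZMod 3), quatFun A₀ X₀ x * Y₀ ^ e.val = 1 → x = 1 ∧ e = 0 := by
  decide +kernel

theorem F₀_injective : Function.Injective F₀ := by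
  rw [injective_iff_map_eq_one]
  intro m hm
  rw [F₀_apply] at hm
  obtain ⟨h1, h2⟩ := F₀_ker_aux _ _ hm
  ext
  · exact h1
  · exact h2

theorem card_G₀ : Nat.card G₀ = 24 := by
  rw [Nat.card_eq_fintype_card]; decide +kernel

theorem card_M : Nat.card M = 24 := by
  rw [Nat.card_congr SemidirectProduct.equivProd, Nat.card_prod]
  have h1 : Nat.card Q8 = 8 := by
    rw [Nat.card_eq_fintype_card]; decide +kernel
  have h2 : Nat.card (Multiplicative (ZMod 3)) = 3 := by
    change Nat.card (ZMod 3) = 3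
    rw [Nat.card_zmod]
  rw [h1, h2]

theorem F₀_bijective : Function.Bijective F₀ :=
  (Nat.bijective_iff_injective_and_card _).2 ⟨F₀_injective, by rw [card_M, card_G₀]⟩

/-- The model is `SL(2,3)`. -/
noncomputable def E₀ : M ≃* G₀ := MulEquiv.ofBijective F₀ F₀_bijective

/-- The central element `-1` of `SL(2,3)` lies in the normal closure of any nontrivial element. -/
theorem sl23_normal_aux : ∀ t : G₀, t ≠ 1 →
    (t ^ 2 = A₀ ^ 2 ∨ t ^ 3 = A₀ ^ 2 ∨ ∃ s : G₀, (t * s * t⁻¹ * s⁻¹) ^ 2 = A₀ ^ 2) := by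
  decide +kernel

/-- A hom from `SL(2,3)` which does not kill `-1` is injective. -/
theorem sl23_hom_injective {W : Type u} [Group W] (f : G₀ →* W) (hf : f (A₀ ^ 2) ≠ 1) :
    Function.Injective f := by
  rw [injective_iff_map_eq_one]
  intro t ht
  by_contra hne
  apply hf
  rcases sl23_normal_aux t hne with h | h | ⟨s, h⟩
  · rw [← h, map_pow, ht, one_pow]
  · rw [← h, map_pow, ht, one_pow]
  · rw [← h]
    simp [map_pow, map_mul, map_inv, ht]

/-- **Recognition of `SL(2,3)`.** -/
theorem nonempty_mulEquiv_sl23 {W : Type u} [Group W] (i j y : W) (hi : i ^ 4 = 1)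
    (hj : j ^ 2 = i ^ 2) (hji : j * i * j⁻¹ = i⁻¹) (hy : y ^ 3 = 1) (hyi : y * i * y⁻¹ = j)
    (hyj : y * j * y⁻¹ = j * i) (hne : i ^ 2 ≠ 1) (hgen : Subgroup.closure {i, j, y} = ⊤) :
    Nonempty (W ≃* G₀) := by
  classical
  let Θ' : M →* W := modelHom i j y hi hj hji hy hyi hyj
  let Θ : G₀ →* W := Θ'.comp E₀.symm.toMonoidHom
  have hA : E₀.symm (A₀ ^ 2) = SemidirectProduct.inl (a 2) := by
    apply E₀.injective
    rw [MulEquiv.apply_symm_apply]
    change A₀ ^ 2 = F₀ (SemidirectProduct.inl (a 2))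
    decide +kernel
  have hinj : Function.Injective Θ := by
    apply sl23_hom_injective
    change Θ' (E₀.symm (A₀ ^ 2)) ≠ 1
    rw [hA]
    change modelHom i j y hi hj hji hy hyi hyj _ ≠ 1
    rw [modelHom_inl, quatHom_a]
    have h2 : (2 : ZMod (2 * 2)).val = 2 := by decide +kernel
    rw [h2]
    exact hne
  have hsurj : Function.Surjective Θ := by
    have hr : Θ.range = ⊤ := by
      rw [eq_top_iff, ← hgen, Subgroup.closure_le]
      have hΘ : ∀ m : M, Θ' m ∈ Θ.range := by
        intro m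
        refine ⟨E₀ m, ?_⟩
        change Θ' (E₀.symm (E₀ m)) = _
        rw [MulEquiv.symm_apply_apply]
      rintro w (rfl | rfl | rfl)
      · have := hΘ (SemidirectProduct.inl (a 1))
        change modelHom w j y hi hj hji hy hyi hyj _ ∈ _ at this
        rw [modelHom_inl, quatHom_a] at this
        have h2 : (1 : ZMod (2 * 2)).val = 1 := by decide +kernel
        rwa [h2, pow_one] at this
      · have := hΘ (SemidirectProduct.inl (xa 0))
        change modelHom i w y hi hj hji hy hyi hyj _ ∈ _ at this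
        rw [modelHom_inl, quatHom_xa] at this
        have h2 : (0 : ZMod (2 * 2)).val = 0 := by decide +kernel
        rwa [h2, pow_zero, mul_one] at this
      · have := hΘ (SemidirectProduct.inr (Multiplicative.ofAdd 1))
        change modelHom i j w hi hj hji hy hyi hyj _ ∈ _ at this
        rw [modelHom_inr] at this
        change w ^ (1 : ZMod 3).val ∈ _ at this
        have h2 : (1 : ZMod 3).val = 1 := by decide +kernel
        rwa [h2, pow_one] at this
    exact MonoidHom.range_eq_top.1 hr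
  exact ⟨(MulEquiv.ofBijective Θ ⟨hinj, hsurj⟩).symm⟩

end Cfsg.Agent.Lib.ElementFusion.SL23
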